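import Groth.Agent.LocDimBC.Comp
import Groth.Agent.CMFlatLib.Locus
import Groth.Prelude.Def_Cyc

/-!
# Relative dimension read off the local dimensions of the fibres
-/

set_option autoImplicit false
set_option backward.isDefEq.respectTransparency false
universe u

open CategoryTheory CategoryTheory.Limits AlgebraicGeometry

namespace Groth.Agent.RelDimLib

/-- A scheme of finite type over a field is equidimensional iff its local dimension is constant. -/
theorem forall_component_iff {F : Scheme.{u}} {k : Type u} [Field k]
    (f : F ⟶ Spec (CommRingCat.of k)) [LocallyOfFiniteType f] (d : ℕ) :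
    (∀ T ∈ irreducibleComponents (F : Type u), topologicalKrullDim T = (d : WithBot ℕ∞)) ↔
      ∀ x : F, FlatMor.localDim F x = (d : WithBot ℕ∞) := by
  refine ⟨fun h x => le_antisymm ?_ ?_, fun h T hT => ?_⟩
  · -- every chain through `x` lies in a component
    obtain ⟨a, t, ha, -, hloc, hh⟩ := DimFormulaLib.field_dims f x
    rw [hloc]
    suffices hco : Order.coheight x + t ≤ d by
      rw [ringKrullDim_stalk_eq_coheight] at ha
      have hxa : Order.coheight x = a := by exact_mod_cast ha
      rw [hxa] at hco
      exact_mod_cast hco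
    obtain ⟨q, hq, hqlen⟩ := Order.exists_series_of_height_eq_coe x hh
    have hp : ∀ p : LTSeries F, p.head = x → (p.length : ℕ∞) + t ≤ d := by
      intro p hp
      obtain ⟨T, hT, hle⟩ := exists_preirreducible (closure ({p.last} : Set F))
        isIrreducible_singleton.closure.isPreirreducible
      have hTc : T ∈ irreducibleComponents (F : Type u) :=
        ⟨⟨⟨p.last, hle.1 (subset_closure rfl)⟩, hT⟩, fun Z hZ hTZ => (hle.2 Z hZ.2 hTZ).le⟩
      obtain ⟨z, rfl, hz⟩ := DimFormulaLib.exists_generic_of_mem_irreducibleComponents hTc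
      have hlast : p.last ≤ z :=
        Scheme.le_iff_specializes.2 (specializes_iff_mem_closure.2 (hle.1 (subset_closure rfl)))
      have h1 := h _ hTc
      rw [DimFormulaLib.topologicalKrullDim_closure_singleton] at h1
      have h2 : Order.height z = (d : ℕ∞) := by exact_mod_cast h1
      have h3 : ((q.smash p (hq.trans hp.symm)).length : ℕ∞) ≤ Order.height z :=
        Order.length_le_height (by rw [RelSeries.last_smash]; exact hlast)
      rw [h2, RelSeries.smash_length, hqlen] at h3
      push_cast at h3
      rwa [add_comm]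
    by_cases hx : ∃ m : ℕ, Order.coheight x = m
    · obtain ⟨m, hm⟩ := hx
      obtain ⟨p, hp', hpl⟩ := Order.exists_series_of_coheight_eq_coe x hm
      rw [hm, ← hpl]
      exact hp p hp'
    · rw [ringKrullDim_stalk_eq_coheight] at ha
      exact absurd ⟨a, by exact_mod_cast ha⟩ hx
  · -- the local dimension only drops under generization
    obtain ⟨T, hT, hle⟩ := exists_preirreducible (closure ({x} : Set F))
      isIrreducible_singleton.closure.isPreirreducible
    have hTc : T ∈ irreducibleComponents (F : Type u) :=
      ⟨⟨⟨x, hle.1 (subset_closure rfl)⟩, hT⟩, fun Z hZ hTZ => (hle.2 Z hZ.2 hTZ).le⟩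
    obtain ⟨z, rfl, hz⟩ := DimFormulaLib.exists_generic_of_mem_irreducibleComponents hTc
    rw [← h _ hTc, LocDimBC.dim_component f z hz]
    have hzx : z ⤳ x := specializes_iff_mem_closure.2 (hle.1 (subset_closure rfl))
    exact le_iInf fun U => iInf_le (fun U : {U : TopologicalSpace.Opens F // z ∈ U} =>
      topologicalKrullDim (U.1 : Set F)) ⟨U.1, hzx.mem_open U.1.2 U.2⟩
  · obtain ⟨z, rfl, hz⟩ := DimFormulaLib.exists_generic_of_mem_irreducibleComponents hT
    rw [LocDimBC.dim_component f z hz, h z]

/-- `HasRelDim` means that the local dimension of the fibres is constant. -/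
theorem hasRelDim_iff {X Y : Scheme.{u}} (f : X ⟶ Y) [LocallyOfFiniteType f] (d : ℕ) :
    Cyc.HasRelDim f d ↔ ∀ x : X, FlatMor.fibreDimAt f x = (d : WithBot ℕ∞) := by
  haveI : ∀ y : Y, LocallyOfFiniteType (f.fiberToSpecResidueField y) := fun y =>
    MorphismProperty.pullback_snd _ _ ‹_›
  refine ⟨fun h x => (forall_component_iff (k := Y.residueField (f x))
    (f.fiberToSpecResidueField (f x)) d).mp (h (f x)) (f.asFiber x), fun h y => ?_⟩
  refine (forall_component_iff (k := Y.residueField y) (f.fiberToSpecResidueField y) d).mpr
    fun z => ?_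
  have hxy : f (f.fiberι y z) = y := by
    have : f.fiberι y z ∈ f ⁻¹' {y} := f.range_fiberι y ▸ Set.mem_range_self z
    exact this
  generalize hx : f.fiberι y z = x at hxy
  subst hxy
  rw [show z = f.asFiber x from (f.fiberι (f x)).isEmbedding.injective
    (hx.trans (f.fiberι_asFiber x).symm)]
  exact h x

end Groth.Agent.RelDimLib
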